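import Groth.Agent.ResProp.K741.PDPush
import Mathlib.Algebra.Category.ModuleCat.ChangeOfRings

/-!
# The pushforward of a module from the chart, for presheaves of modules `PM A`

`PD A x₀` as in `K741/PDPush`.  For an `A(x₀)`-module `N` the presheaf `pf D N : z ↦ A(z × x₀) ⊗_{A(x₀)} N` is cartesian and
right adjoint to the evaluation at `x₀` on cartesian presheaves: `toPf`, `ofPf`, `ofPf_toPf`, `toPf_ofPf`.
-/

set_option autoImplicit false
set_option backward.isDefEq.respectTransparency false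
set_option backward.isDefEq.respectTransparency.types false
set_option linter.style.haveILetI false
set_option linter.dupNamespace false
set_option linter.unusedSectionVars false

open CategoryTheory Opposite TensorProduct

namespace Groth.Agent.ResProp.EF.K554

open K784.BC K784.PM K741.RP

universe w₂ w₁ v₁ u₁ u

section Semi

variable {A B C : Type*} [CommRing A] [CommRing B] [CommRing C] {M N P : Type*} [AddCommGroup M] [Module A M]
  [AddCommGroup N] [Module B N] [AddCommGroup P] [Module C P]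

/-- semilinear extension along a base change -/
theorem exists_semi {φ : A →+* B} {f : M →+ N} (h : IsBC φ f) (ψ : B →+* C) (g : M →+ P)
    (hg : ∀ (a : A) (m : M), g (a • m) = ψ (φ a) • g m) :
    ∃ t : N →+ P, (∀ (b : B) (n : N), t (b • n) = ψ b • t n) ∧ ∀ m, t (f m) = g m := by
  letI : Module B P := Module.compHom P ψ
  obtain ⟨t, ht, -⟩ := h.existsUnique_lift g hg
  exact ⟨t.toAddMonoidHom, fun b n => t.map_smul b n, ht⟩

/-- uniqueness of semilinear extensions -/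
theorem semi_ext {φ : A →+* B} {f : M →+ N} (h : IsBC φ f) (ψ : B →+* C) (t t' : N →+ P)
    (ht : ∀ (b : B) (n : N), t (b • n) = ψ b • t n) (ht' : ∀ (b : B) (n : N), t' (b • n) = ψ b • t' n)
    (e : ∀ m, t (f m) = t' (f m)) : t = t' := by
  ext n
  induction n using h.induction with
  | zero => rw [map_zero, map_zero]
  | map m => exact e m
  | smul b n hn => rw [ht, ht', hn]
  | add x y hx hy => rw [map_add, map_add, hx, hy]

end Semi

section V

variable {𝒞 : Type u₁} [Category.{v₁} 𝒞] (A : 𝒞ᵒᵖ ⥤ CommRingCat.{u}) {x₀ : 𝒞}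
  (N : ModuleCat.{u} (A.obj (op x₀)))

/-- `A(y) ⊗_{A(x₀), l} N` -/
noncomputable abbrev V {y : 𝒞} (l : y ⟶ x₀) : ModuleCat.{u} (A.obj (op y)) := (ModuleCat.extendScalars (rg A l)).obj N

/-- `n ↦ 1 ⊗ n` -/
noncomputable def jn {y : 𝒞} (l : y ⟶ x₀) : N →+ V A N l :=
  letI := (rg A l).toAlgebra
  (TensorProduct.mk (A.obj (op x₀)) (A.obj (op y)) N 1).toAddMonoidHom

theorem isBC_jn {y : 𝒞} (l : y ⟶ x₀) : IsBC (rg A l) (jn A N l) := isBC_mk (rg A l) N

theorem jn_smul {y : 𝒞} (l : y ⟶ x₀) (r : A.obj (op x₀)) (n : N) : jn A N l (r • n) = rg A l r • jn A N l n :=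
  (isBC_jn A N l).map_smul r n

theorem exists_tr {y y' : 𝒞} {l : y ⟶ x₀} {l' : y' ⟶ x₀} (ψ : y' ⟶ y) (h : ψ ≫ l = l') :
    ∃ t : V A N l →+ V A N l', (∀ (b : A.obj (op y)) (n : V A N l), t (b • n) = rg A ψ b • t n) ∧
      ∀ m, t (jn A N l m) = jn A N l' m :=
  exists_semi (isBC_jn A N l) (rg A ψ) (jn A N l') fun a m => by
    rw [jn_smul, ← rg_comp_apply, h]

/-- transition maps -/
noncomputable def tr {y y' : 𝒞} {l : y ⟶ x₀} {l' : y' ⟶ x₀} (ψ : y' ⟶ y) (h : ψ ≫ l = l') : V A N l →+ V A N l' :=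
  (exists_tr A N ψ h).choose

theorem tr_smul {y y' : 𝒞} {l : y ⟶ x₀} {l' : y' ⟶ x₀} (ψ : y' ⟶ y) (h : ψ ≫ l = l') (b : A.obj (op y))
    (n : V A N l) : tr A N ψ h (b • n) = rg A ψ b • tr A N ψ h n := (exists_tr A N ψ h).choose_spec.1 b n

theorem tr_jn {y y' : 𝒞} {l : y ⟶ x₀} {l' : y' ⟶ x₀} (ψ : y' ⟶ y) (h : ψ ≫ l = l') (m : N) :
    tr A N ψ h (jn A N l m) = jn A N l' m := (exists_tr A N ψ h).choose_spec.2 m

theorem tr_id {y : 𝒞} {l : y ⟶ x₀} (ψ : y ⟶ y) (h : ψ ≫ l = l) (hψ : ψ = 𝟙 y) (v : V A N l) : tr A N ψ h v = v := by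
  have e : tr A N ψ h = AddMonoidHom.id _ := semi_ext (isBC_jn A N l) (rg A ψ) _ _ (tr_smul A N ψ h)
    (fun b n => by subst hψ; rw [rg_id]; rfl) (fun m => tr_jn A N ψ h m)
  rw [e]
  rfl

theorem tr_comp {y y' y'' : 𝒞} {l : y ⟶ x₀} {l' : y' ⟶ x₀} {l'' : y'' ⟶ x₀} (ψ' : y'' ⟶ y') (ψ : y' ⟶ y)
    (h' : ψ' ≫ l' = l'') (h : ψ ≫ l = l') (χ : y'' ⟶ y) (hχ : ψ' ≫ ψ = χ) (h'' : χ ≫ l = l'') (v : V A N l) :
    tr A N χ h'' v = tr A N ψ' h' (tr A N ψ h v) := by
  subst hχ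
  have e : tr A N (ψ' ≫ ψ) h'' = (tr A N ψ' h').comp (tr A N ψ h) := semi_ext (isBC_jn A N l) (rg A (ψ' ≫ ψ)) _ _
    (tr_smul A N _ h'') (fun b n => by
      rw [AddMonoidHom.comp_apply, AddMonoidHom.comp_apply, tr_smul, tr_smul, rg_comp_apply])
    (fun m => by rw [AddMonoidHom.comp_apply, tr_jn, tr_jn, tr_jn])
  rw [e]
  rfl

theorem isBC_tr {y y' : 𝒞} {l : y ⟶ x₀} {l' : y' ⟶ x₀} (ψ : y' ⟶ y) (h : ψ ≫ l = l') :
    IsBC (rg A ψ) (tr A N ψ h) := by
  subst h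
  refine IsBC.of_comp (isBC_jn A N l) (fun b n => tr_smul A N ψ rfl b n) ?_
  have h1 := isBC_jn A N (ψ ≫ l)
  rw [rg_comp] at h1
  have h2 : (tr A N ψ rfl).comp (jn A N l) = jn A N (ψ ≫ l) := AddMonoidHom.ext fun m => tr_jn A N ψ rfl m
  rw [h2]
  exact h1

variable {N} {N' N'' : ModuleCat.{u} (A.obj (op x₀))}

/-- functoriality in `N` -/
noncomputable abbrev Vm (f : N ⟶ N') {y : 𝒞} (l : y ⟶ x₀) : V A N l ⟶ V A N' l := (ModuleCat.extendScalars (rg A l)).map f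

theorem Vm_jn (f : N ⟶ N') {y : 𝒞} (l : y ⟶ x₀) (n : N) : Vm A f l (jn A N l n) = jn A N' l (f n) := rfl

theorem Vm_tr (f : N ⟶ N') {y y' : 𝒞} {l : y ⟶ x₀} {l' : y' ⟶ x₀} (ψ : y' ⟶ y) (h : ψ ≫ l = l') (v : V A N l) :
    Vm A f l' (tr A N ψ h v) = tr A N' ψ h (Vm A f l v) := by
  have e : (Vm A f l').hom.toAddMonoidHom.comp (tr A N ψ h) = (tr A N' ψ h).comp (Vm A f l).hom.toAddMonoidHom :=
    semi_ext (isBC_jn A N l) (rg A ψ) _ _
      (fun b n => by
        change Vm A f l' (tr A N ψ h (b • n)) = rg A ψ b • Vm A f l' (tr A N ψ h n)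
        rw [tr_smul, map_smul])
      (fun b n => by
        change tr A N' ψ h (Vm A f l (b • n)) = rg A ψ b • tr A N' ψ h (Vm A f l n)
        rw [map_smul, tr_smul])
      (fun m => by
        change Vm A f l' (tr A N ψ h (jn A N l m)) = tr A N' ψ h (Vm A f l (jn A N l m))
        rw [tr_jn, Vm_jn, Vm_jn, tr_jn])
  exact congr($e v)

end V

section PF

variable {𝒞 : Type u₁} [Category.{v₁} 𝒞] {A : 𝒞ᵒᵖ ⥤ CommRingCat.{u}} {x₀ : 𝒞} (D : PD A x₀)

/-- the pushforward `z ↦ A(z × x₀) ⊗ N` -/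
noncomputable def pf (N : ModuleCat.{u} (A.obj (op x₀))) : PM.{u} A where
  obj z := V A N (D.b z)
  grp z := inferInstanceAs (AddCommGroup (V A N (D.b z)))
  mod z := Module.compHom (V A N (D.b z)) (rg A (D.π z))
  map φ := tr A N (D.wm φ) (D.wm_b φ)
  map_smul {x z} φ r m := by
    change tr A N (D.wm φ) (D.wm_b φ) (rg A (D.π z) r • m) = rg A (D.π x) (rg A φ r) • tr A N (D.wm φ) (D.wm_b φ) m
    rw [tr_smul, ← rg_comp_apply, ← rg_comp_apply, D.wm_π]
  map_id z m := tr_id A N _ _ (D.wm_id z) m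
  map_comp ψ φ m := tr_comp A N _ _ _ _ _ (D.wm_comp ψ φ).symm _ m

theorem pf_cart (N : ModuleCat.{u} (A.obj (op x₀))) : (pf D N).Cart := fun x z φ => by
  letI i1 : Module (A.obj (op (D.w z))) ((pf D N).obj z) := (V A N (D.b z)).isModule
  letI i2 : Module (A.obj (op (D.w x))) ((pf D N).obj x) := (V A N (D.b x)).isModule
  exact IsBC.of_po (D.po' φ) (fun _ _ => rfl) (fun _ _ => rfl) (isBC_tr A N (D.wm φ) (D.wm_b φ))

/-- functoriality -/
noncomputable def pfMap {N N' : ModuleCat.{u} (A.obj (op x₀))} (f : N ⟶ N') (z : 𝒞) :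
    (pf D N).obj z →ₗ[A.obj (op z)] (pf D N').obj z where
  toFun v := Vm A f (D.b z) v
  map_add' a b := map_add (Vm A f (D.b z)).hom a b
  map_smul' r v := (Vm A f (D.b z)).hom.map_smul (rg A (D.π z) r) (show V A N (D.b z) from v)

theorem pfMap_map {N N' : ModuleCat.{u} (A.obj (op x₀))} (f : N ⟶ N') ⦃x z : 𝒞⦄ (φ : x ⟶ z) (v : (pf D N).obj z) :
    pfMap D f x ((pf D N).map φ v) = (pf D N').map φ (pfMap D f z v) := Vm_tr A f (D.wm φ) (D.wm_b φ) v

variable {M : PM.{w₁} A} {N : ModuleCat.{u} (A.obj (op x₀))}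

/-- the extension of `f : M(x₀) → N` over an arrow `l : y ⟶ x₀` -/
theorem exists_th (hM : M.Cart) (f : M.obj x₀ →ₗ[A.obj (op x₀)] N) {y : 𝒞} (l : y ⟶ x₀) :
    ∃ t : M.obj y →ₗ[A.obj (op y)] V A N l, ∀ m, t (M.map l m) = jn A N l (f m) := by
  obtain ⟨t, ht, -⟩ := (hM l).existsUnique_lift ((jn A N l).comp f.toAddMonoidHom) (fun a m => by
    change jn A N l (f (a • m)) = rg A l a • jn A N l (f m)
    rw [f.map_smul, jn_smul])
  exact ⟨t, ht⟩

/-- the extension of `f : M(x₀) → N` over an arrow `l : y ⟶ x₀` -/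
noncomputable def th (hM : M.Cart) (f : M.obj x₀ →ₗ[A.obj (op x₀)] N) {y : 𝒞} (l : y ⟶ x₀) :
    M.obj y →ₗ[A.obj (op y)] V A N l := (exists_th hM f l).choose

theorem th_map (hM : M.Cart) (f : M.obj x₀ →ₗ[A.obj (op x₀)] N) {y : 𝒞} (l : y ⟶ x₀) (m : M.obj x₀) :
    th hM f l (M.map l m) = jn A N l (f m) := (exists_th hM f l).choose_spec m

theorem eq_th (hM : M.Cart) (f : M.obj x₀ →ₗ[A.obj (op x₀)] N) {y : 𝒞} (l : y ⟶ x₀) (t : M.obj y →ₗ[A.obj (op y)] V A N l)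
    (h : ∀ m, t (M.map l m) = jn A N l (f m)) : t = th hM f l :=
  (hM l).hom_ext fun m => by rw [h, th_map]

theorem th_tr (hM : M.Cart) (f : M.obj x₀ →ₗ[A.obj (op x₀)] N) {y y' : 𝒞} {l : y ⟶ x₀} {l' : y' ⟶ x₀} (ψ : y' ⟶ y)
    (h : ψ ≫ l = l') (m : M.obj y) : tr A N ψ h (th hM f l m) = th hM f l' (M.map ψ m) := by
  subst h
  have e : (tr A N ψ rfl).comp (th hM f l).toAddMonoidHom = (th hM f (ψ ≫ l)).toAddMonoidHom.comp (M.map ψ) :=
    semi_ext (hM l) (rg A ψ) _ _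
      (fun b n => by
        change tr A N ψ rfl (th hM f l (b • n)) = rg A ψ b • tr A N ψ rfl (th hM f l n)
        rw [map_smul, tr_smul])
      (fun b n => by
        change th hM f (ψ ≫ l) (M.map ψ (b • n)) = rg A ψ b • th hM f (ψ ≫ l) (M.map ψ n)
        rw [M.map_smul, map_smul])
      (fun m => by
        change tr A N ψ rfl (th hM f l (M.map l m)) = th hM f (ψ ≫ l) (M.map ψ (M.map l m))
        rw [th_map, tr_jn, ← M.map_comp, th_map])
  exact congr($e m)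

/-- the map `M ⟶ pf D N` of a map `M(x₀) ⟶ N` -/
noncomputable def toPf (hM : M.Cart) (f : M.obj x₀ →ₗ[A.obj (op x₀)] N) (z : 𝒞) :
    M.obj z →ₗ[A.obj (op z)] (pf D N).obj z where
  toFun m := th hM f (D.b z) (M.map (D.π z) m)
  map_add' a b := by rw [map_add, map_add]
  map_smul' r a := by
    rw [M.map_smul, map_smul]
    rfl

theorem toPf_map (hM : M.Cart) (f : M.obj x₀ →ₗ[A.obj (op x₀)] N) ⦃x z : 𝒞⦄ (φ : x ⟶ z) (m : M.obj z) :
    toPf D hM f x (M.map φ m) = (pf D N).map φ (toPf D hM f z m) := by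
  change th hM f (D.b x) (M.map (D.π x) (M.map φ m)) = tr A N (D.wm φ) (D.wm_b φ) (th hM f (D.b z) (M.map (D.π z) m))
  rw [th_tr, ← M.map_comp, ← M.map_comp, D.wm_π]

/-- the diagonal -/
def dg (D : PD A x₀) : x₀ ⟶ D.w x₀ := D.lift (𝟙 x₀) (𝟙 x₀)

theorem dg_π : dg D ≫ D.π x₀ = 𝟙 x₀ := D.lift_π _ _

theorem dg_b : dg D ≫ D.b x₀ = 𝟙 x₀ := D.lift_b _ _

theorem exists_ep (N : ModuleCat.{u} (A.obj (op x₀))) :
    ∃ t : V A N (D.b x₀) →+ N, (∀ (b : A.obj (op (D.w x₀))) (n : V A N (D.b x₀)), t (b • n) = rg A (dg D) b • t n) ∧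
      ∀ m, t (jn A N (D.b x₀) m) = m := by
  obtain ⟨t, h1, h2⟩ := exists_semi (isBC_jn A N (D.b x₀)) (rg A (dg D)) (AddMonoidHom.id N) fun a m => by
    rw [← rg_comp_apply, dg_b, rg_id]
    rfl
  exact ⟨t, h1, h2⟩

/-- the counit `A(x₀ × x₀) ⊗ N ⟶ N` -/
noncomputable def ep (N : ModuleCat.{u} (A.obj (op x₀))) : V A N (D.b x₀) →+ N := (exists_ep D N).choose

theorem ep_smul (N : ModuleCat.{u} (A.obj (op x₀))) (b : A.obj (op (D.w x₀))) (n : V A N (D.b x₀)) :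
    ep D N (b • n) = rg A (dg D) b • ep D N n := (exists_ep D N).choose_spec.1 b n

theorem ep_jn (N : ModuleCat.{u} (A.obj (op x₀))) (m : N) : ep D N (jn A N (D.b x₀) m) = m :=
  (exists_ep D N).choose_spec.2 m

/-- the counit as a linear map -/
noncomputable def epl (N : ModuleCat.{u} (A.obj (op x₀))) : (pf D N).obj x₀ →ₗ[A.obj (op x₀)] N where
  toFun v := ep D N v
  map_add' a b := map_add (ep D N) a b
  map_smul' r v := by
    refine (ep_smul D N (rg A (D.π x₀) r) v).trans ?_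
    rw [← rg_comp_apply, dg_π, rg_id]

theorem epl_toPf (hM : M.Cart) (f : M.obj x₀ →ₗ[A.obj (op x₀)] N) (m : M.obj x₀) :
    epl D N (toPf D hM f x₀ m) = f m := by
  have e : (ep D N).comp (th hM f (D.b x₀)).toAddMonoidHom = f.toAddMonoidHom.comp (M.map (dg D)) :=
    semi_ext (hM (D.b x₀)) (rg A (dg D)) _ _
      (fun b n => by
        change ep D N (th hM f (D.b x₀) (b • n)) = rg A (dg D) b • ep D N (th hM f (D.b x₀) n)
        rw [map_smul, ep_smul])
      (fun b n => by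
        change f (M.map (dg D) (b • n)) = rg A (dg D) b • f (M.map (dg D) n)
        rw [M.map_smul, map_smul])
      (fun m => by
        change ep D N (th hM f (D.b x₀) (M.map (D.b x₀) m)) = f (M.map (dg D) (M.map (D.b x₀) m))
        rw [th_map, ep_jn, ← M.map_comp, dg_b, M.map_id])
  have h1 : ep D N (th hM f (D.b x₀) (M.map (D.π x₀) m)) = f (M.map (dg D) (M.map (D.π x₀) m)) := congr($e _)
  refine h1.trans ?_
  rw [← M.map_comp, dg_π, M.map_id]

/-- **the second triangle identity** -/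
theorem toPf_epl (hM : M.Cart) (g : ∀ z, M.obj z →ₗ[A.obj (op z)] (pf D N).obj z)
    (hg : ∀ ⦃x z : 𝒞⦄ (φ : x ⟶ z) (m : M.obj z), g x (M.map φ m) = (pf D N).map φ (g z m)) (z : 𝒞) (m : M.obj z) :
    toPf D hM ((epl D N).comp (g x₀)) z m = g z m := by
  -- the arrow `d : w z ⟶ w (w z)`
  let d : D.w z ⟶ D.w (D.w z) := D.lift (𝟙 _) (D.b z)
  have d1 : d ≫ D.π (D.w z) = 𝟙 _ := D.lift_π _ _
  have d2 : d ≫ D.b (D.w z) = D.b z := D.lift_b _ _
  let t : M.obj (D.w z) →ₗ[A.obj (op (D.w z))] V A N (D.b z) :=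
    { toFun := fun m => tr A N d d2 (g (D.w z) m)
      map_add' := fun a b => by rw [map_add]; exact map_add (tr A N d d2) _ _
      map_smul' := fun r a => by
        rw [map_smul]
        refine (tr_smul A N d d2 (rg A (D.π (D.w z)) r) (g (D.w z) a)).trans ?_
        rw [← rg_comp_apply, d1, rg_id] }
  have h3 : D.b z ≫ dg D = d ≫ D.wm (D.b z) := by
    refine D.ext ?_ ?_
    · rw [Category.assoc, dg_π, Category.assoc, D.wm_π, ← Category.assoc, d1, Category.comp_id, Category.id_comp]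
    · rw [Category.assoc, dg_b, Category.assoc, D.wm_b, d2, Category.comp_id]
  have h4 : (jn A N (D.b z)).comp (ep D N) = (tr A N d d2).comp (tr A N (D.wm (D.b z)) (D.wm_b (D.b z))) :=
    semi_ext (isBC_jn A N (D.b x₀)) (rg A (D.b z ≫ dg D)) _ _
      (fun b n => by
        change jn A N (D.b z) (ep D N (b • n)) = rg A (D.b z ≫ dg D) b • jn A N (D.b z) (ep D N n)
        rw [ep_smul, jn_smul, rg_comp_apply])
      (fun b n => by
        change tr A N d d2 (tr A N (D.wm (D.b z)) (D.wm_b (D.b z)) (b • n)) =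
          rg A (D.b z ≫ dg D) b • tr A N d d2 (tr A N (D.wm (D.b z)) (D.wm_b (D.b z)) n)
        rw [tr_smul, tr_smul, h3, rg_comp_apply])
      (fun m => by
        change jn A N (D.b z) (ep D N (jn A N (D.b x₀) m)) =
          tr A N d d2 (tr A N (D.wm (D.b z)) (D.wm_b (D.b z)) (jn A N (D.b x₀) m))
        rw [ep_jn, tr_jn, tr_jn])
  have h5 : t = th hM ((epl D N).comp (g x₀)) (D.b z) := by
    refine eq_th hM _ _ _ fun m => ?_
    change tr A N d d2 (g (D.w z) (M.map (D.b z) m)) = jn A N (D.b z) (ep D N (g x₀ m))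
    rw [hg]
    exact congr($h4.symm (g x₀ m))
  have h6 : toPf D hM ((epl D N).comp (g x₀)) z m = t (M.map (D.π z) m) := congr($h5.symm (M.map (D.π z) m))
  rw [h6]
  change tr A N d d2 (g (D.w z) (M.map (D.π z) m)) = g z m
  rw [hg]
  have h7 : d ≫ D.wm (D.π z) = 𝟙 (D.w z) := by
    refine D.ext ?_ ?_
    · rw [Category.assoc, D.wm_π, ← Category.assoc, d1]
    · rw [Category.assoc, D.wm_b, d2, Category.id_comp]
  change tr A N d d2 (tr A N (D.wm (D.π z)) (D.wm_b (D.π z)) (g z m)) = g z m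
  rw [← tr_comp A N d (D.wm (D.π z)) d2 (D.wm_b (D.π z)) _ rfl (by rw [h7, Category.id_comp])]
  exact tr_id A N _ _ h7 _

end PF

end Groth.Agent.ResProp.EF.K554
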