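import Groth.Agent.ResProp.EF.K276.EFComod
import Groth.Agent.ResProp.EF.K554.Push
import Mathlib.Algebra.Category.ModuleCat.Presheaf.Colimits
import Mathlib.CategoryTheory.Limits.Preserves.Finite
import Mathlib.CategoryTheory.Adjunction.Additive

/-!
# P2: the pushforward `v_* : ModuleCat A⟨0⟩ ⥤ Comod A`, right adjoint of `vst A`

`pst h`, `pstAdj h : vst A ⊣ pst h`, additive, preserves all `u`-small colimits (and finite ones), flat modules go to flat modules.
-/

set_option autoImplicit false
set_option backward.isDefEq.respectTransparency false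
set_option backward.isDefEq.respectTransparency.types false
set_option linter.style.haveILetI false
set_option linter.dupNamespace false
set_option linter.unusedSectionVars false

open CategoryTheory CategoryTheory.Limits Opposite TensorProduct

namespace Groth.Agent.ResProp.EF.K554

open K784.BC K784.PM K741.RP EF56 K276

universe u

variable {A : NFᵒᵖ ⥤ CommRingCat.{u}} (h : GR A)

/-- the presheaf `n ↦ A(n+1) ⊗ N` -/
noncomputable def pstObj (N : ModuleCat.{u} (A.obj (op ⟨0⟩))) : Comod A := ⟨ofPM (pf h.pd N), ofPM_cart (pf_cart h.pd N)⟩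

/-- functoriality -/
noncomputable def pstMap {N N' : ModuleCat.{u} (A.obj (op ⟨0⟩))} (f : N ⟶ N') :
    (pstObj h N).obj ⟶ (pstObj h N').obj :=
  homMk (M := ofPM (pf h.pd N)) (N := ofPM (pf h.pd N')) (pfMap h.pd f) (pfMap_map h.pd f)

/-- **the pushforward `v_*`** -/
noncomputable def pst : ModuleCat.{u} (A.obj (op ⟨0⟩)) ⥤ Comod A where
  obj N := pstObj h N
  map f := ObjectProperty.homMk (pstMap h f)
  map_id N := by
    refine ObjectProperty.hom_ext _ (PresheafOfModules.hom_ext fun X => ?_)
    ext v
    change Vm A (𝟙 N) _ v = v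
    rw [Vm, CategoryTheory.Functor.map_id]
    rfl
  map_comp f g := by
    refine ObjectProperty.hom_ext _ (PresheafOfModules.hom_ext fun X => ?_)
    ext v
    change Vm A (f ≫ g) _ v = Vm A g _ (Vm A f _ v)
    rw [Vm, CategoryTheory.Functor.map_comp]
    rfl

/-- the adjunction, on Hom sets -/
noncomputable def pstEquiv (M : Comod A) (N : ModuleCat.{u} (A.obj (op ⟨0⟩))) :
    ((vst A).obj M ⟶ N) ≃ (M ⟶ (pst h).obj N) where
  toFun f := ObjectProperty.homMk (homMk (M := M.obj) (N := ofPM (pf h.pd N)) (toPf h.pd (M := toPM M.obj) M.2 f.hom)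
    (toPf_map h.pd (M := toPM M.obj) M.2 f.hom))
  invFun g := ModuleCat.ofHom ((epl h.pd N).comp (lin g.hom ⟨0⟩))
  left_inv f := by
    ext m
    exact epl_toPf h.pd (M := toPM M.obj) M.2 f.hom m
  right_inv g := by
    refine ObjectProperty.hom_ext _ (PresheafOfModules.hom_ext fun X => ?_)
    ext m
    exact toPf_epl h.pd (M := toPM M.obj) M.2 (fun z => lin g.hom z) (fun x z φ e => lin_map g.hom φ e) X.unop m

theorem toPf_comp {M : PM.{u} A} (hM : M.Cart) {N N' : ModuleCat.{u} (A.obj (op ⟨0⟩))}
    (f : M.obj ⟨0⟩ →ₗ[A.obj (op ⟨0⟩)] N) (g : N ⟶ N') (z : NF) (m : M.obj z) :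
    toPf h.pd hM (g.hom.comp f) z m = pfMap h.pd g z (toPf h.pd hM f z m) := by
  have e : (Vm A g (h.pd.b z)).hom.comp (th hM f (h.pd.b z)) = th hM (g.hom.comp f) (h.pd.b z) :=
    eq_th hM _ _ _ fun m => by
      change Vm A g (h.pd.b z) (th hM f (h.pd.b z) (M.map (h.pd.b z) m)) = jn A N' (h.pd.b z) (g.hom (f m))
      rw [th_map]
      rfl
  exact congr($e.symm (M.map (h.pd.π z) m))

/-- **the adjunction `v^* ⊣ v_*`** -/
noncomputable def pstAdj : vst A ⊣ pst h := Adjunction.mkOfHomEquiv
  { homEquiv := pstEquiv h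
    homEquiv_naturality_left_symm := fun f g => rfl
    homEquiv_naturality_right := fun {M N N'} f g => by
      refine ObjectProperty.hom_ext _ (PresheafOfModules.hom_ext fun X => ?_)
      ext m
      exact toPf_comp h (M := toPM M.obj) M.2 f.hom g X.unop m }

/-- the value in degree `a` -/
noncomputable def pstEval (a : NF) : pst h ⋙ (isCart A).ι ⋙ PresheafOfModules.evaluation (rf A) (op a) ≅
    ModuleCat.extendScalars (rg A (lst a)) ⋙ ModuleCat.restrictScalars (rg A (pr a)) :=
  NatIso.ofComponents (fun _ => Iso.refl _) fun _ => rfl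

theorem pst_preservesColimits : PreservesColimitsOfSize.{u, u} (pst h) := by
  have h1 : ∀ a : NF, PreservesColimitsOfSize.{u, u}
      (pst h ⋙ (isCart A).ι ⋙ PresheafOfModules.evaluation (rf A) (op a)) := fun a =>
    preservesColimits_of_natIso (pstEval h a).symm
  have h2 : PreservesColimitsOfSize.{u, u} (pst h ⋙ (isCart A).ι) := ⟨fun {J} _ => ⟨fun {K} => ⟨fun {c} hc => ⟨
    PresheafOfModules.evaluationJointlyReflectsColimits _ _ fun X => isColimitOfPreserves
      (pst h ⋙ (isCart A).ι ⋙ PresheafOfModules.evaluation (rf A) (op X.unop)) hc⟩⟩⟩⟩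
  exact preservesColimits_of_reflects_of_preserves (pst h) (isCart A).ι

theorem pst_preservesFiniteColimits : PreservesFiniteColimits (pst h) := by
  have _ := pst_preservesColimits h
  have _ : PreservesColimitsOfSize.{0, 0} (pst h) := preservesColimitsOfSize_shrink.{0, u, 0, u} (pst h)
  exact PreservesColimitsOfSize.preservesFiniteColimits (pst h)

/-- base change of flat modules -/
theorem flat_of_isBC {R S : Type*} [CommRing R] [CommRing S] {φ : R →+* S} {M N : Type*} [AddCommGroup M] [Module R M]
    [AddCommGroup N] [Module S N] {f : M →+ N} (hf : IsBC φ f) (hM : Module.Flat R M) : Module.Flat S N := by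
  letI := φ.toAlgebra
  obtain ⟨e, -⟩ := IsBC.exists_equiv (isBC_mk φ M) hf
  exact Module.Flat.of_linearEquiv e.symm

/-- flat modules over a flat algebra -/
theorem flat_restrict {R S : Type*} [CommRing R] [CommRing S] {φ : R →+* S} (hφ : φ.Flat) (N : Type*) [AddCommGroup N]
    [Module S N] [Module R N] (hN : ∀ (r : R) (n : N), r • n = φ r • n) (h : Module.Flat S N) : Module.Flat R N := by
  letI := φ.toAlgebra
  haveI : IsScalarTower R S N := ⟨fun a b n => by
    rw [hN, Algebra.smul_def, mul_smul]
    rfl⟩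
  haveI : Module.Flat R S := hφ
  exact Module.Flat.trans R S N

theorem pst_flat (N : ModuleCat.{u} (A.obj (op ⟨0⟩))) (hN : Module.Flat (A.obj (op ⟨0⟩)) N) :
    Module.Flat (A.obj (op ⟨0⟩)) ((vst A).obj ((pst h).obj N)) := by
  have h1 : Module.Flat (A.obj (op (h.pd.w ⟨0⟩))) (V A N (h.pd.b ⟨0⟩)) := flat_of_isBC (isBC_jn A N (h.pd.b ⟨0⟩)) hN
  letI i1 : Module (A.obj (op (h.pd.w ⟨0⟩))) ((vst A).obj ((pst h).obj N)) := (V A N (h.pd.b ⟨0⟩)).isModule
  exact flat_restrict (h.pd.ff ⟨0⟩).fl ((vst A).obj ((pst h).obj N)) (fun r n => rfl) h1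

instance vst_faithful : (vst A).Faithful where
  map_injective {M N} f g hfg := by
    refine ObjectProperty.hom_ext _ (PresheafOfModules.hom_ext fun X => ?_)
    have e0 : lin f.hom ⟨0⟩ = lin g.hom ⟨0⟩ := congrArg ModuleCat.Hom.hom hfg
    have e : lin f.hom X.unop = lin g.hom X.unop := by
      refine (M.2 (pt X.unop 0)).hom_ext fun m => ?_
      rw [lin_map, lin_map, e0]
    ext m
    exact congr($e m)

instance vst_additive : (vst A).Additive where
  map_add := rfl

theorem pst_additive : (pst h).Additive := (pstAdj h).right_adjoint_additive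

theorem additive_of_lex {C D : Type*} [Category* C] [Category* D] [Abelian C] [Abelian D] (F : C ⥤ D)
    (hF : PreservesFiniteLimits F) : F.Additive := by
  haveI : F.PreservesZeroMorphisms := Functor.preservesZeroMorphisms_of_preserves_terminal_object (F := F)
  exact Functor.additive_of_preserves_binary_products F

theorem additive_right {C D : Type*} [Category* C] [Category* D] [Abelian C] [Abelian D] (F : C ⥤ D) (G : D ⥤ C)
    (adj : F ⊣ G) (hF : F.Additive) : G.Additive := adj.right_adjoint_additive

/-- **the abstract chart of a groupoid ring**, from an abelian structure and the exactness of `vst A` -/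
noncomputable def absChart (h : GR A) (ab : Abelian (Comod A)) (h2 : PreservesFiniteLimits (vst A)) :
    @AbsChart.{u + 1, u, u} (A.obj (op ⟨0⟩)) _ (Comod A) _ ab :=
  { v := vst A
    p := pst h
    adj := pstAdj h
    addv := @additive_of_lex (Comod A) (ModuleCat.{u} (A.obj (op ⟨0⟩))) _ _ ab _ (vst A) h2
    addp := @additive_right (Comod A) (ModuleCat.{u} (A.obj (op ⟨0⟩))) _ _ ab _ (vst A) (pst h) (pstAdj h)
      (@additive_of_lex (Comod A) (ModuleCat.{u} (A.obj (op ⟨0⟩))) _ _ ab _ (vst A) h2)
    fin_lim := h2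
    faithful := vst_faithful
    p_fin_colim := pst_preservesFiniteColimits h
    p_colim := pst_preservesColimits h
    flat := fun N hN => pst_flat h N hN }

theorem absChart_v (h : GR A) (ab : Abelian (Comod A)) (h2 : PreservesFiniteLimits (vst A)) :
    (absChart h ab h2).v = vst A := rfl

end Groth.Agent.ResProp.EF.K554
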