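import Groth.Agent.ResProp.EF.K276.Groth
import Groth.Agent.ResProp.EF.K554.PushAdj

/-!
# `Comod A` is a Grothendieck abelian category with an abstract chart

P1 (helper741), P3 (helper276) and the pushforward `pst`.
-/

set_option autoImplicit false
set_option linter.dupNamespace false

open CategoryTheory CategoryTheory.Limits Opposite

namespace Groth.Agent.ResProp.EF.K554

open EF56

universe u

/-- the package of a groupoid ring -/
noncomputable def comodPkg (A : NFᵒᵖ ⥤ CommRingCat.{u}) (h : GR A) : ComodPkg A :=
  haveI : Fact (GR A) := ⟨h⟩
  { ab := inferInstance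
    gr := inferInstance
    ch := absChart h inferInstance inferInstance
    v_eq := rfl }

theorem stmtComodPkg : StmtComodPkg.{u} := fun A h => ⟨comodPkg A h⟩

end Groth.Agent.ResProp.EF.K554
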